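import Groth.Agent.TraceNegLib.Main

/-!
# The degree of the direct image is nonpositive
-/

set_option autoImplicit false
set_option linter.style.haveILetI false
set_option maxHeartbeats 800000
set_option backward.isDefEq.respectTransparency false
universe u

open CategoryTheory CategoryTheory.Limits AlgebraicGeometry TopologicalSpace Opposite DevissLib QCohLib DetDegLib

noncomputable section

namespace TraceNegLib

variable {k : Type u} [Field k] [CharZero k] {C Y : Scheme.{u}} [C.Over (Spec (CommRingCat.of k))]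
  [IsProper (C ↘ Spec (CommRingCat.of k))] [IsIntegral C]

omit [CharZero k] in
/-- The local term of a pair after squaring. -/
theorem two_degTerm_le (hdim : topologicalKrullDim C ≤ 1) (x : C) {a f d : C.presheaf.stalk x}
    (ha : a ∈ nonZeroDivisors (C.presheaf.stalk x)) (hf : f ∈ nonZeroDivisors (C.presheaf.stalk x))
    (hd : d ∈ nonZeroDivisors (C.presheaf.stalk x)) :
    2 * degTerm k x a f ≤ degTerm k x (a ^ 2 * d) (f ^ 2) := by
  haveI := CurvLib.isNoetherian k (X := C)
  haveI : Ring.KrullDimLE 1 (C.presheaf.stalk x) := CurveAmpLib.krullDimLE_stalk hdim x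
  have hfin : ∀ {z : C.presheaf.stalk x}, z ∈ nonZeroDivisors (C.presheaf.stalk x) →
      Ring.ord (C.presheaf.stalk x) z ≠ ⊤ := fun hz => Ring.ord_ne_top hz
  have h1 : (Ring.ord (C.presheaf.stalk x) (a ^ 2 * d)).toNat =
      2 * (Ring.ord (C.presheaf.stalk x) a).toNat + (Ring.ord (C.presheaf.stalk x) d).toNat := by
    rw [Ring.ord_mul (C.presheaf.stalk x) hd, Ring.ord_pow ha, nsmul_eq_mul,
      ENat.toNat_add (WithTop.mul_ne_top (ENat.coe_ne_top 2) (hfin ha)) (hfin hd), ENat.toNat_mul]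
    simp
  have h2 : (Ring.ord (C.presheaf.stalk x) (f ^ 2)).toNat = 2 * (Ring.ord (C.presheaf.stalk x) f).toNat := by
    rw [Ring.ord_pow hf, nsmul_eq_mul, ENat.toNat_mul]
    simp
  unfold degTerm
  rw [h1, h2]
  push_cast
  letI : Algebra k (C.presheaf.stalk x) := Curv2.stalkAlgebra k C x
  nlinarith [mul_nonneg (Int.natCast_nonneg (resDeg k (C.presheaf.stalk x)).toNat)
    (Int.natCast_nonneg (Ring.ord (C.presheaf.stalk x) d).toNat)]

omit [CharZero k] in
theorem nzd_germ {V : C.Opens} {x : C} (hx : x ∈ V) {d : Γ(C, V)} (hd : d ≠ 0) :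
    C.presheaf.germ V x hx d ∈ nonZeroDivisors (C.presheaf.stalk x) :=
  mem_nonZeroDivisors_of_ne_zero fun h => hd (germ_injective_of_isIntegral C x hx (h.trans (map_zero _).symm))

omit [CharZero k] in
theorem generic_mem {V : C.Opens} {x : C} (hx : x ∈ V) : genericPoint C ∈ V :=
  ((genericPoint_spec C).specializes trivial).mem_open V.isOpen hx

omit [CharZero k] in
theorem frameAt_sec {V : C.Opens} {y : C} (hy : y ∈ V) {a : Γ(C, V)} (ha : IsUnit a) :
    FrameAt (n := 1) (Coh.structureModule C) (fun _ => (show Γ(Coh.structureModule C, V) from a)) hy := by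
  refine (frameAt_one_iff _ hy).mpr ?_
  have h1 := AmpleLib.genAt_smul_iff a (show Γ(Coh.structureModule C, V) from (1 : Γ(C, V))) hy
    ((AmpleLib.one_genOn V).genAt hy)
  refine (Iff.of_eq (congrArg (fun z : Γ(C, V) =>
    AmpleLib.GenAt (Coh.structureModule C) (show Γ(Coh.structureModule C, V) from z) hy) (mul_one a))).mp ?_
  exact h1.mpr ((Scheme.mem_basicOpen C a y hy).mpr (ha.map _))

omit [CharZero k] [IsProper (C ↘ Spec (CommRingCat.of k))] in
/-- The local data of the direct image with a compatible discriminant. -/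
theorem exists_datum' {n : ℕ} (g : Y ⟶ C) [IsAffineHom g]
    (hE : FlatMod.IsFinLocFreeOfRank n (alg g)) (hk : ∀ {V : C.Opens}, IsAffineOpen V → genericPoint C ∈ V →
      ∀ e : Fin n → Γ(alg g, V),
      (Function.Bijective fun c : Fin n → Γ(C, V) => ∑ i, c i • e i) → disc g e ≠ 0)
    [IsLocallyNoetherian C] [C.IsSeparated]
    (U : C.affineOpens) (e : Fin n → Γ(alg g, U.1))
    (he : ∀ (y : C) (hy : y ∈ U.1), FrameAt (alg g) e hy) (hηU : genericPoint C ∈ U.1)
    (x : C) (V : C.affineOpens) (hxV : x ∈ V.1) (b : Fin n → Γ(alg g, V.1))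
    (hb : ∀ (y : C) (hy : y ∈ V.1), FrameAt (alg g) b hy) :
    ∃ (f d : C.presheaf.stalk x) (G : Matrix (Fin n) (Fin n) (C.presheaf.stalk x)),
      f ∈ nonZeroDivisors _ ∧ G.det ∈ nonZeroDivisors _ ∧ d ∈ nonZeroDivisors _ ∧
      (∃ b : Fin n → (St x).obj (alg g),
        Function.Bijective (fun c : Fin n → C.presheaf.stalk x => ∑ i, c i • b i) ∧
        Function.Injective ((St x).map (eta U.1 (alg g))).hom ∧
        ∀ j, f • gm (Pu U.1 (alg g)) x (show x ∈ (⊤ : C.Opens) from trivial) (eP (e j)) =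
          ∑ i, G i j • ((St x).map (eta U.1 (alg g))).hom (b i)) ∧
      (∃ w : Fin 1 → (St x).obj (Coh.structureModule C),
        Function.Bijective (fun c : Fin 1 → C.presheaf.stalk x => ∑ i, c i • w i) ∧
        Function.Injective ((St x).map (eta U.1 (Coh.structureModule C))).hom ∧
        (f ^ n) ^ 2 • gm (Pu U.1 (Coh.structureModule C)) x (show x ∈ (⊤ : C.Opens) from trivial)
            (eP (show Γ(Coh.structureModule C, U.1) from disc g e)) =
          (G.det ^ 2 * d) • ((St x).map (eta U.1 (Coh.structureModule C))).hom (w 0)) := by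
  classical
  haveI : Coh.IsQCoh (alg g) := (CurvLib.isCoh_of_locFree hE).1
  haveI : Coh.IsQCoh (Coh.structureModule C) := QCohLib.isQCoh_unit
  haveI : Nonempty C := ⟨x⟩
  haveI : Nonempty V.1 := ⟨⟨x, hxV⟩⟩
  let W : C.affineOpens := ⟨V.1 ⊓ U.1, V.2.inf U.2⟩
  have hηV : genericPoint C ∈ V.1 := generic_mem hxV
  have hηW : genericPoint C ∈ W.1 := ⟨hηV, hηU⟩
  obtain ⟨g₀, hgW, hηg⟩ := V.2.exists_basicOpen_le (V := W.1) ⟨genericPoint C, hηW⟩ hηV
  have hg0 : g₀ ≠ 0 := fun h => by
    rw [h, C.basicOpen_zero] at hηg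
    exact hηg
  have hg : g₀ ∈ nonZeroDivisors Γ(C, V.1) := mem_nonZeroDivisors_of_ne_zero hg0
  have hWV : W.1 ≤ V.1 := inf_le_left
  have hWU : W.1 ≤ U.1 := inf_le_right
  have hgU : C.basicOpen g₀ ≤ U.1 := hgW.trans hWU
  let eW : Fin n → Γ(alg g, W.1) := fun j => (alg g).presheaf.map (homOfLE hWU).op (e j)
  let bW : Fin n → Γ(alg g, W.1) := fun j => (alg g).presheaf.map (homOfLE hWV).op (b j)
  have hbW : ∀ (y : C) (hy : y ∈ W.1), FrameAt (alg g) bW hy := fun y hy =>
    (frameAt_res hWV b hy).mpr (hb y _)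
  have heW : ∀ (y : C) (hy : y ∈ W.1), FrameAt (alg g) eW hy := fun y hy =>
    (frameAt_res hWU e hy).mpr (he y _)
  choose M hM using fun j => (frame_bijective W.2 bW hbW).2 (eW j)
  let G' : Matrix (Fin n) (Fin n) Γ(C, W.1) := Matrix.of fun i j => M j i
  have hG' : ∀ j, eW j = ∑ i, G' i j • bW i := fun j => (hM j).symm
  obtain ⟨N, H, hH⟩ := exists_clear_matrix V.2 W.2 hWV g₀ hgW G'
  let ρ : Γ(C, V.1) →+* Γ(C, W.1) := (C.presheaf.map (homOfLE hWV).op).hom
  change H.map ρ = ρ g₀ ^ N • G' at hH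
  have hdet : ρ H.det = (ρ g₀ ^ N) ^ n * G'.det := by
    rw [RingHom.map_det, RingHom.mapMatrix_apply, hH, Matrix.det_smul, Fintype.card_fin]
  have hρd : ρ (disc g b) = disc g bW :=
    disc_res g hWV b (frame_bijective V.2 b hb) (frame_bijective W.2 bW hbW)
  have hσd : C.presheaf.map (homOfLE hWU).op (disc g e) = disc g eW :=
    disc_res g hWU e (frame_bijective U.2 e he) (frame_bijective W.2 eW heW)
  have hkey : ρ (H.det ^ 2 * disc g b) = ρ (((g₀ ^ N) ^ n) ^ 2) * disc g eW := by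
    rw [map_mul, map_pow, hdet, hρd, disc_matrix g bW eW G' hG', map_pow, map_pow, map_pow]
    ring
  have hprod : H.det ^ 2 * disc g b ≠ 0 := by
    intro h
    rw [h, map_zero] at hkey
    haveI : Nonempty W.1 := ⟨⟨genericPoint C, hηW⟩⟩
    rcases mul_eq_zero.mp hkey.symm with h1 | h1
    · exact (pow_ne_zero 2 (pow_ne_zero n (pow_ne_zero N hg0)))
        (res_injective V.2 hWV hg hgW (h1.trans (map_zero ρ).symm))
    · exact hk W.2 hηW eW (frame_bijective W.2 eW heW) h1
  let γ : Γ(C, V.1) →+* C.presheaf.stalk x := (C.presheaf.germ V.1 x hxV).hom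
  have hdγ : (H.map γ).det = γ H.det := (RingHom.map_det γ H).symm
  refine ⟨γ (g₀ ^ N), γ (disc g b), H.map γ, nzd_germ hxV (pow_ne_zero N hg0),
    hdγ ▸ nzd_germ hxV (fun h => hprod (by rw [h]; simp)),
    nzd_germ hxV (hk V.2 hηV b (frame_bijective V.2 b hb)),
    ⟨fun i => gm (alg g) x hxV (b i), hb x hxV, eta_injective V.2 b hb hg hgU hxV, fun j => ?_⟩, ?_⟩
  · have hz : C.presheaf.map (homOfLE hWV).op (g₀ ^ N) • eW j =
        (alg g).presheaf.map (homOfLE hWV).op (∑ i, H i j • b i) := by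
      rw [map_sum, hG', Finset.smul_sum]
      refine Finset.sum_congr rfl fun i _ => ?_
      rw [QCohLib.map_smul', smul_smul]
      refine congrArg (· • bW i) ?_
      rw [map_pow]
      exact (congrFun (congrFun hH i) j).symm
    refine (gm_rel hxV (g₀ ^ N) (e j) (∑ i, H i j • b i) hz).trans ?_
    rw [gm_combo (alg g) b hxV, map_sum]
    exact Finset.sum_congr rfl fun i _ => map_smul _ _ _
  · let one : Γ(Coh.structureModule C, V.1) := (1 : Γ(C, V.1))
    have hone : ∀ (y : C) (hy : y ∈ V.1), FrameAt (n := 1) (Coh.structureModule C) (fun _ => one) hy :=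
      fun y hy => frameAt_sec hy isUnit_one
    refine ⟨fun _ => gm (Coh.structureModule C) x hxV one, hone x hxV,
      eta_injective V.2 (fun _ => one) hone hg hgU hxV, ?_⟩
    have hz : C.presheaf.map (homOfLE hWV).op (((g₀ ^ N) ^ n) ^ 2) •
          (Coh.structureModule C).presheaf.map (homOfLE hWU).op (show Γ(Coh.structureModule C, U.1) from disc g e) =
        (Coh.structureModule C).presheaf.map (homOfLE hWV).op ((H.det ^ 2 * disc g b) • one) := by
      change ρ (((g₀ ^ N) ^ n) ^ 2) * (C.presheaf.map (homOfLE hWU).op (disc g e) : Γ(C, W.1)) =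
        ρ ((H.det ^ 2 * disc g b : Γ(C, V.1)) * (1 : Γ(C, V.1)))
      rw [mul_one, hkey, hσd]
    rw [hdγ]
    refine (congrArg (· • gm (Pu U.1 (Coh.structureModule C)) x _ _)
      (show (γ (g₀ ^ N) ^ n) ^ 2 = γ (((g₀ ^ N) ^ n) ^ 2) by simp only [map_pow])).trans ?_
    refine (gm_rel hxV _ _ _ hz).trans ?_
    rw [gm_smul, map_smul]
    exact congrArg (· • ((St x).map (eta U.1 (Coh.structureModule C))).hom _)
      (show γ (H.det ^ 2 * disc g b) = γ H.det ^ 2 * γ (disc g b) by rw [map_mul, map_pow])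

theorem deg_le_zero (hdim : topologicalKrullDim C = 1) (g : Y ⟶ C) [IsFinite g] (d : ℕ)
    (hd : FlatMod.IsFinLocFreeOfRank d (alg g)) (hred : AlgebraicGeometry.IsReduced (g.fiber (genericPoint C))) :
    Curv2.deg k C (alg g) d ≤ 0 := by
  classical
  haveI := CurvLib.isNoetherian k (X := C)
  haveI : C.IsSeparated := ⟨by rw [← terminal.comp_from (C ↘ Spec (CommRingCat.of k))]; infer_instance⟩
  haveI : Coh.IsQCoh (alg g) := (CurvLib.isCoh_of_locFree hd).1
  haveI : Coh.IsQCoh (Coh.structureModule C) := QCohLib.isQCoh_unit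
  have hk : ∀ {V : C.Opens}, IsAffineOpen V → genericPoint C ∈ V → ∀ e : Fin d → Γ(alg g, V),
      (Function.Bijective fun c : Fin d → Γ(C, V) => ∑ i, c i • e i) → disc g e ≠ 0 :=
    fun hV hη e he => disc_ne_zero (k := k) g hred hV hη e he
  obtain ⟨U₀, e₀, he₀, hass, -, -⟩ := exists_setup (k := k) hd hdim.le
  have hη0 : genericPoint C ∈ U₀.1 := by
    refine hass _ (AssPointLib.weak_of_maximal ?_ fun y _ hy => ?_)
    · rw [IntMultLib.support_structureModule']; exact Set.mem_univ _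
    · exact (hy.antisymm ((genericPoint_spec C).specializes trivial)).eq
  have hd0 := hk U₀.2 hη0 e₀ (frame_bijective U₀.2 e₀ he₀)
  haveI : Nonempty U₀.1 := ⟨⟨_, hη0⟩⟩
  let U : C.affineOpens := ⟨C.basicOpen (disc g e₀), U₀.2.basicOpen _⟩
  have hUU : U.1 ≤ U₀.1 := C.basicOpen_le _
  have hη : genericPoint C ∈ U.1 := by
    rw [Scheme.mem_basicOpen C _ _ hη0]
    let F : Field (C.presheaf.stalk (genericPoint C)) := inferInstanceAs (Field C.functionField)
    exact IsUnit.mk0 _
      fun h => hd0 (germ_injective_of_isIntegral C _ hη0 (h.trans (map_zero _).symm))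
  let e : Fin d → Γ(alg g, U.1) := fun i => (alg g).presheaf.map (homOfLE hUU).op (e₀ i)
  have he : ∀ (y : C) (hy : y ∈ U.1), FrameAt (alg g) e hy := fun y hy =>
    (frameAt_res hUU e₀ hy).mpr (he₀ y _)
  have hde : IsUnit (disc g e) := by
    rw [← disc_res g hUU e₀ (frame_bijective U₀.2 e₀ he₀) (frame_bijective U.2 e he)]
    exact C.toRingedSpace.isUnit_res_basicOpen (disc g e₀)
  have hTd : topologicalKrullDim ↥((U.1 : Set C)ᶜ) ≤ 0 := by
    refine CurvLib.dim_le_zero_of_no_maximal hdim.le U.1.isOpen.isClosed_compl fun x hx => ?_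
    exact ⟨genericPoint C, (genericPoint_spec C).specializes trivial, fun he => hx (he ▸ hη)⟩
  have hT : ((U.1 : Set C)ᶜ).Finite :=
    (CurvLib.finite_isClosed_of_dim_le_zero U.1.isOpen.isClosed_compl hTd).1
  choose V hxV b hb using fun x : C => exists_good_affine (k := k) hd x
  choose f dd G hf hG hdd hdE hdO using fun x : C =>
    exists_datum' g hd hk U e he hη x (V x) (hxV x) (b x) (hb x)
  have h1 := euler_frame k hdim.le (CurvLib.isCoh_of_locFree hd) e hT hTd he f G fun x _ => by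
    obtain ⟨b, hb, hη, hrel⟩ := hdE x
    exact ⟨b, hb, hf x, hG x, hη, hrel⟩
  have h2 := euler_frame (n := 1) k hdim.le (DevissLib.isCoh_structureModule C)
    (fun _ => (show Γ(Coh.structureModule C, U.1) from disc g e)) hT hTd
    (fun y hy => frameAt_sec hy hde)
    (fun x => (f x ^ d) ^ 2) (fun x => Matrix.of fun _ _ => (G x).det ^ 2 * dd x) fun x _ => by
      obtain ⟨w, hw, hη, hrel⟩ := hdO x
      refine ⟨w, hw, pow_mem (pow_mem (hf x) d) 2, ?_, hη, fun j => ?_⟩
      · simpa [Matrix.det_fin_one] using mul_mem (pow_mem (hG x) 2) (hdd x)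
      · rw [Fin.sum_univ_one]
        exact hrel
  simp only [Nat.cast_one, one_mul, sub_self, Matrix.det_fin_one, Matrix.of_apply, pow_one] at h2
  rw [Curv2.deg, h1]
  have h3 : 2 * ∑ x ∈ hT.toFinset, degTerm k x (G x).det (f x ^ d) ≤
      ∑ x ∈ hT.toFinset, degTerm k x ((G x).det ^ 2 * dd x) ((f x ^ d) ^ 2) := by
    rw [Finset.mul_sum]
    exact Finset.sum_le_sum fun x _ =>
      two_degTerm_le (k := k) hdim.le x (hG x) (pow_mem (hf x) d) (hdd x)
  linarith

end TraceNegLib
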