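import Mathlib
import Groth.Agent.QFDualLib.Basic

/-!
# Discriminant of a reduced finite algebra in characteristic zero
-/

set_option autoImplicit false
universe u

namespace TraceNegLib

theorem exists_idempotent {L : Type*} [CommRing L] [IsReduced L] [IsArtinianRing L] (x : L) (hx : x ≠ 0) :
    ∃ y : L, x * y * (x * y) = x * y ∧ x * y ≠ 0 := by
  obtain ⟨n, y, hy⟩ := IsArtinian.exists_pow_succ_smul_dvd x (1 : L)
  rw [smul_eq_mul, smul_eq_mul, mul_one] at hy
  have h0 : (x * (1 - x * y)) ^ (n + 1) = 0 := by
    have h1 : x ^ n * (1 - x * y) = 0 := by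
      rw [mul_sub, mul_one, sub_eq_zero, ← mul_assoc, ← pow_succ, hy]
    rw [mul_pow, pow_succ' x, pow_succ' (1 - x * y),
      show x * x ^ n * ((1 - x * y) * (1 - x * y) ^ n) =
        x * (x ^ n * (1 - x * y)) * (1 - x * y) ^ n by ring, h1, mul_zero, zero_mul]
  have h2 : x * (1 - x * y) = 0 := IsReduced.eq_zero _ ⟨n + 1, h0⟩
  refine ⟨y, ?_, fun h => hx ?_⟩
  · linear_combination -y * h2
  · rw [h, sub_zero, mul_one] at h2
    exact h2

variable {K L ι : Type*} [Field K] [CharZero K] [CommRing L] [Algebra K L] [IsReduced L]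
  [Fintype ι] [DecidableEq ι]

theorem discr_ne_zero (b : Module.Basis ι K L) : Algebra.discr K b ≠ 0 := by
  intro h
  haveI : Module.Finite K L := Module.Finite.of_basis b
  haveI : IsArtinianRing L := IsArtinianRing.of_finite K L
  rw [Algebra.discr_def] at h
  obtain ⟨v, hv, hv0⟩ := Matrix.exists_mulVec_eq_zero_iff.mpr h
  let x : L := ∑ j, v j • b j
  have hx : x ≠ 0 := fun hx => hv (funext fun j => Fintype.linearIndependent_iff.mp b.linearIndependent v hx j)
  have htr : ∀ y : L, Algebra.trace K L (x * y) = 0 := by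
    have : ((Algebra.traceForm K L) x) = 0 := b.ext fun i => by
      rw [LinearMap.zero_apply, Algebra.traceForm_apply]
      have h1 := congrFun hv0 i
      simp only [Matrix.mulVec, dotProduct, Algebra.traceMatrix_apply, Algebra.traceForm_apply,
        Pi.zero_apply] at h1
      simp only [x, Finset.sum_mul, map_sum, smul_mul_assoc, map_smul, smul_eq_mul]
      refine Eq.trans (Finset.sum_congr rfl fun j _ => ?_) h1
      rw [mul_comm (b j), mul_comm]
    intro y
    exact congr($this y)
  obtain ⟨y, hid, hne⟩ := exists_idempotent x hx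
  have h1 : LinearMap.IsProj (LinearMap.range (LinearMap.mulLeft K (x * y))) (LinearMap.mulLeft K (x * y)) :=
    ⟨fun z => ⟨z, rfl⟩, fun z ⟨w, hw⟩ => by
      subst hw
      simp only [LinearMap.mulLeft_apply]
      rw [← mul_assoc, hid]⟩
  have h2 := h1.trace
  have h3 : (0 : K) = (Module.finrank K (LinearMap.range (LinearMap.mulLeft K (x * y))) : K) := by
    rw [← h2]
    exact ((htr y).symm.trans (Algebra.trace_apply K (x * y)))
  have h4 : LinearMap.range (LinearMap.mulLeft K (x * y)) = ⊥ :=
    Submodule.finrank_eq_zero.mp (Nat.cast_eq_zero.mp h3.symm)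
  refine hne ?_
  have : x * y * 1 ∈ LinearMap.range (LinearMap.mulLeft K (x * y)) := ⟨1, rfl⟩
  rw [h4, Submodule.mem_bot, mul_one] at this
  exact this

/-- Change of frame in a discriminant. -/
theorem discr_matrix {A B : Type*} [CommRing A] [CommRing B] [Algebra A B] (b e : ι → B)
    (G : Matrix ι ι A) (h : ∀ j, e j = ∑ i, G i j • b i) :
    Algebra.discr A e = G.det ^ 2 * Algebra.discr A b := by
  rw [show e = Matrix.vecMul b (G.map (algebraMap A B)) from funext fun j => by
    rw [h]
    simp [Matrix.vecMul, dotProduct, Algebra.smul_def, mul_comm], Algebra.discr_of_matrix_vecMul]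

end TraceNegLib
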