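import Groth.Agent.TraceNegLib.Alg
import Groth.Agent.DetDegLib.Main
import Groth.Agent.DetDegLib.Matrix
import Groth.Agent.GenFibNearLib.NonRed
import Groth.Agent.LengthDetLib.Global

/-!
# The degree of the algebra of a finite flat generically reduced cover is nonpositive
-/

set_option autoImplicit false
set_option linter.style.haveILetI false
set_option maxHeartbeats 800000
set_option backward.isDefEq.respectTransparency false
universe u

open CategoryTheory CategoryTheory.Limits AlgebraicGeometry TopologicalSpace Opposite DevissLib QCohLib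

noncomputable section

namespace TraceNegLib

variable {C Y : Scheme.{u}} (g : Y ⟶ C)

/-- The direct image of the structure sheaf. -/
abbrev alg : C.Modules := (Coh.push g).obj (Coh.structureModule Y)

/-- The functions over an open. -/
abbrev Fn (V : C.Opens) : Type u := Γ(Y, g ⁻¹ᵁ V)

instance algFn (V : C.Opens) : Algebra Γ(C, V) (Fn g V) := (g.appLE V (g ⁻¹ᵁ V) le_rfl).hom.toAlgebra

/-- A section of the direct image as a function. -/
def toFn {V : C.Opens} : Γ(alg g, V) ≃+ Fn g V := AddEquiv.refl _

theorem toFn_smul {V : C.Opens} (r : Γ(C, V)) (m : Γ(alg g, V)) :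
    toFn g (r • m) = r • toFn g m := by
  rw [Algebra.smul_def]
  change _ = g.appLE V (g ⁻¹ᵁ V) le_rfl r * toFn g m
  rw [Scheme.Hom.appLE_eq_app]
  rfl

theorem toFn_res {V W : C.Opens} (h : W ≤ V) (m : Γ(alg g, V)) :
    toFn g ((alg g).presheaf.map (homOfLE h).op m) =
      Y.presheaf.map (homOfLE (g.preimage_mono h)).op (toFn g m) := rfl

/-- The discriminant of a family of sections. -/
def disc {V : C.Opens} {n : ℕ} (e : Fin n → Γ(alg g, V)) : Γ(C, V) :=
  Algebra.discr Γ(C, V) fun i => toFn g (e i)

/-- A bijective combination gives a basis. -/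
def frameBasis {V : C.Opens} {n : ℕ} (e : Fin n → Γ(alg g, V))
    (he : Function.Bijective fun c : Fin n → Γ(C, V) => ∑ i, c i • e i) :
    Module.Basis (Fin n) Γ(C, V) (Fn g V) :=
  Module.Basis.ofEquivFun (LinearEquiv.ofBijective
    (Fintype.linearCombination Γ(C, V) fun i => toFn g (e i)) (by
      have h1 : ⇑(Fintype.linearCombination Γ(C, V) fun i => toFn g (e i)) =
          toFn g ∘ fun c : Fin n → Γ(C, V) => ∑ i, c i • e i := funext fun c => by
        simp only [Fintype.linearCombination_apply, Function.comp_apply, map_sum, toFn_smul]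
      rw [h1]
      exact (toFn g).bijective.comp he)).symm

theorem frameBasis_apply {V : C.Opens} {n : ℕ} (e : Fin n → Γ(alg g, V))
    (he : Function.Bijective fun c : Fin n → Γ(C, V) => ∑ i, c i • e i) (i : Fin n) :
    frameBasis g e he i = toFn g (e i) := by
  simp [frameBasis, Module.Basis.coe_ofEquivFun, Fintype.linearCombination_apply_single]

theorem disc_res {V W : C.Opens} (h : W ≤ V) {n : ℕ} (e : Fin n → Γ(alg g, V))
    (he : Function.Bijective fun c : Fin n → Γ(C, V) => ∑ i, c i • e i)
    (he' : Function.Bijective fun c : Fin n → Γ(C, W) =>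
      ∑ i, c i • (alg g).presheaf.map (homOfLE h).op (e i)) :
    C.presheaf.map (homOfLE h).op (disc g e) =
      disc g (fun i => (alg g).presheaf.map (homOfLE h).op (e i)) := by
  letI : Algebra Γ(C, V) Γ(C, W) := (C.presheaf.map (homOfLE h).op).hom.toAlgebra
  letI : Algebra (Fn g V) (Fn g W) := (Y.presheaf.map (homOfLE (g.preimage_mono h)).op).hom.toAlgebra
  letI : Algebra Γ(C, V) (Fn g W) := (g.appLE V (g ⁻¹ᵁ W) (g.preimage_mono h)).hom.toAlgebra
  haveI : IsScalarTower Γ(C, V) Γ(C, W) (Fn g W) := IsScalarTower.of_algebraMap_eq' (by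
    change _ = (g.appLE W (g ⁻¹ᵁ W) le_rfl).hom.comp (C.presheaf.map (homOfLE h).op).hom
    rw [← CommRingCat.hom_comp, Scheme.Hom.map_appLE]
    rfl)
  haveI : IsScalarTower Γ(C, V) (Fn g V) (Fn g W) := IsScalarTower.of_algebraMap_eq' (by
    change _ = (Y.presheaf.map (homOfLE (g.preimage_mono h)).op).hom.comp (g.appLE V (g ⁻¹ᵁ V) le_rfl).hom
    rw [← CommRingCat.hom_comp, Scheme.Hom.appLE_map]
    rfl)
  have h1 := QFDualLib.discr_map (frameBasis g e he)
    (frameBasis g (fun i => (alg g).presheaf.map (homOfLE h).op (e i)) he') fun i => by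
      rw [frameBasis_apply, frameBasis_apply]
      rfl
  rw [funext (frameBasis_apply g e he), funext (frameBasis_apply g _ he')] at h1
  exact h1.symm

theorem disc_matrix {V : C.Opens} {n : ℕ} (b e : Fin n → Γ(alg g, V))
    (G : Matrix (Fin n) (Fin n) Γ(C, V)) (h : ∀ j, e j = ∑ i, G i j • b i) :
    disc g e = G.det ^ 2 * disc g b :=
  discr_matrix _ _ G fun j => by rw [h, map_sum]; exact Finset.sum_congr rfl fun i _ => toFn_smul g _ _

theorem charZero_sections {k : Type u} [Field k] [CharZero k] [C.Over (Spec (CommRingCat.of k))]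
    {R : Type u} [CommRing R] [Nontrivial R] {V : C.Opens} (f : Γ(C, V) →+* R) : CharZero R :=
  charZero_of_injective_ringHom
    ((f.comp ((C.presheaf.map (homOfLE (le_top : V ≤ ⊤)).op).hom.comp
      (Coh.toGlobal (C ↘ Spec (CommRingCat.of k))))).injective)

theorem disc_ne_zero {k : Type u} [Field k] [CharZero k] [C.Over (Spec (CommRingCat.of k))]
    [IsAffineHom g] {η : C} (hred : AlgebraicGeometry.IsReduced (g.fiber η)) {V : C.Opens}
    (hV : IsAffineOpen V) (hη : η ∈ V) {n : ℕ} (e : Fin n → Γ(alg g, V))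
    (he : Function.Bijective fun c : Fin n → Γ(C, V) => ∑ i, c i • e i) : disc g e ≠ 0 := by
  let p := (hV.primeIdealOf ⟨η, hη⟩).asIdeal
  let K := p.ResidueField
  haveI : CharZero K := charZero_sections (k := k) (algebraMap Γ(C, V) K)
  haveI : _root_.IsReduced (p.Fiber (Fn g V)) :=
    (GenFibNearLib.isReduced_fiber_iff g hV η hη).mp hred (g ⁻¹ᵁ V) (hV.preimage g) le_rfl
  let b := frameBasis g e he
  let bK : Module.Basis (Fin n) K (TensorProduct Γ(C, V) K (Fn g V)) := Algebra.TensorProduct.basis K b
  haveI : _root_.IsReduced (TensorProduct Γ(C, V) K (Fn g V)) := inferInstanceAs (_root_.IsReduced (p.Fiber (Fn g V)))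
  letI : Algebra (Fn g V) (TensorProduct Γ(C, V) K (Fn g V)) :=
    (Algebra.TensorProduct.includeRight : Fn g V →ₐ[Γ(C, V)] _).toRingHom.toAlgebra
  haveI : IsScalarTower Γ(C, V) (Fn g V) (TensorProduct Γ(C, V) K (Fn g V)) :=
    IsScalarTower.of_algebraMap_eq' (Algebra.TensorProduct.includeRight : Fn g V →ₐ[Γ(C, V)] TensorProduct Γ(C, V) K (Fn g V)).comp_algebraMap.symm
  intro h0
  refine discr_ne_zero bK ?_
  rw [QFDualLib.discr_map b bK (fun i => Algebra.TensorProduct.basis_apply b i)]
  rw [funext (frameBasis_apply g e he), ← disc, h0, map_zero]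

end TraceNegLib
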